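import Cfsg.Agent.H10.FC.Semi

/-!
# S5764, COR-G4: the three maps (helper10)
-/

set_option autoImplicit false

namespace Cfsg.Agent.H10.FC

open Cfsg.Agent.H198.FC Module

universe u v

section

variable {K : Type u} [Field K] {V : Type v} [AddCommGroup V] [Module K V]

theorem finish {S : Subgroup (Equiv.Perm V)} (hS : S ≤ Semi K V) (hhm : ∀ a, hm K V a ∈ S) {A B : Submodule K V}
    (hAB : IsCompl A B) (hB0 : B ≠ ⊥) {b : Fin 3 → V} (hbase : ∀ g ∈ S, (∀ i, g (b i) = b i) → ∀ v ∈ B, g v = v)
    {ι : Type*} [Fintype ι] (e : Basis ι K A) {g : Equiv.Perm V} (hg : g ∈ S) {c : K} (hc : c ≠ 0)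
    (h1 : ∀ i, g (b i) = c • b i) (h2 : ∀ j, g (e j : V) = c • (e j : V)) : ∃ a : Kˣ, g = hm K V a := by
  obtain ⟨hadd, σ, hσ⟩ := hS hg
  have h3 : ∀ v ∈ B, g v = c • v := by
    intro v hv
    have h := hbase ((hm K V (Units.mk0 c hc))⁻¹ * g) (S.mul_mem (S.inv_mem (hhm _)) hg) (fun i => by
      change (hm K V (Units.mk0 c hc)).symm (g (b i)) = b i
      rw [Equiv.symm_apply_eq, h1, hm_apply, Units.val_mk0]) v hv
    change (hm K V (Units.mk0 c hc)).symm (g v) = v at h
    rw [Equiv.symm_apply_eq, hm_apply, Units.val_mk0] at h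
    exact h
  obtain ⟨v0, hv0, hv0'⟩ := Submodule.exists_mem_ne_zero_of_ne_bot hB0
  have hσ1 : ∀ x, σ x = x := by
    intro x
    have h := hσ x v0
    rw [h3 _ (B.smul_mem x hv0), h3 _ hv0, smul_smul, smul_smul] at h
    have h' := smul_left_injective K hv0' h
    exact (mul_right_cancel₀ hc (by rw [← h', mul_comm])).symm
  have h4 : ∀ v ∈ A, g v = c • v := by
    intro v hv
    have e1 : v = ∑ j, (e.repr ⟨v, hv⟩ j) • (e j : V) := by
      have := congrArg (fun z : A => (z : V)) (e.sum_repr ⟨v, hv⟩)
      simp only [Submodule.coe_sum, Submodule.coe_smul] at this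
      exact this.symm
    rw [e1, semi_sum (hS hg), Finset.smul_sum]
    refine Finset.sum_congr rfl fun j _ => ?_
    rw [hσ, hσ1, h2, smul_comm]
  refine ⟨Units.mk0 c hc, ?_⟩
  ext v
  obtain ⟨x, hx, y, hy, rfl⟩ := Submodule.mem_sup.1 (show v ∈ A ⊔ B by rw [hAB.sup_eq_top]; trivial)
  rw [hadd, h4 x hx, h3 y hy, hm_apply, Units.val_mk0, smul_add]

theorem exists_eta [Finite K] [Module.Finite K V] {S : Subgroup (Equiv.Perm V)} (hS : S ≤ Semi K V)
    (hhm : ∀ a, hm K V a ∈ S) (hsol : Group.IsSolvable S) {A B : Submodule K V} (hAB : IsCompl A B)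
    (hA : ∀ g ∈ S, ∀ v ∈ A, g v ∈ A) (hB : ∀ g ∈ S, ∀ v ∈ B, g v ∈ B) (hA0 : A ≠ ⊥)
    (hab : finrank K A ≤ finrank K B)
    (hcr : ∀ U : Submodule K V, U ≤ B → (∀ g ∈ S, ∀ v ∈ U, g v ∈ U) →
      ∃ W : Submodule K V, W ≤ B ∧ (∀ g ∈ S, ∀ v ∈ W, g v ∈ W) ∧ U ⊓ W = ⊥ ∧ U ⊔ W = B) :
    ∃ η : Fin 3 → (A →ₗ[K] V), (∀ i v, η i v ∈ B) ∧
      ∀ g ∈ S, (∀ i, ∀ v w : A, g (v : V) = (w : V) → g (η i v) = η i w) → ∃ a : Kˣ, g = hm K V a := by
  obtain ⟨b, hbB, hbase⟩ := base_on hS hhm hsol B hB hcr
  have ha0 : 0 < finrank K A := by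
    rw [Nat.pos_iff_ne_zero]
    intro h
    exact hA0 (Submodule.finrank_eq_zero.1 h)
  have hB0 : B ≠ ⊥ := by
    intro h
    have := finrank_bot K V
    rw [h] at hab
    omega
  obtain ⟨m, hm⟩ : ∃ m, finrank K A = m + 1 := ⟨finrank K A - 1, by omega⟩
  let e : Basis (Fin (m + 1)) K A := finBasisOfFinrankEq K A hm
  have hinj : ∀ g ∈ S, ∀ j, g (e j : V) ≠ 0 := by
    intro g hg j h
    have h1 : g (e j : V) = g 0 := by rw [h, semi_zero (hS hg)]
    exact e.ne_zero j (Subtype.ext (g.injective h1))
  -- the images of the basis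
  have himg : ∀ g ∈ S, ∀ j, ∃ w : A, g (e j : V) = (w : V) := fun g hg j => ⟨⟨_, hA g hg _ (e j).2⟩, rfl⟩
  have hconstr : ∀ (f : Fin (m + 1) → V), (∀ j, f j ∈ B) → ∀ v, e.constr K f v ∈ B := by
    intro f hf v
    rw [Basis.constr_apply_fintype]
    exact B.sum_mem fun j _ => B.smul_mem _ (hf j)
  let P : Submodule K V := Submodule.span K (Set.range b)
  have hPB : P ≤ B := Submodule.span_le.2 (by rintro _ ⟨i, rfl⟩; exact hbB i)
  have hP3 : finrank K P ≤ 3 := (finrank_range_le_card (R := K) b).trans (by simp)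
  by_cases hm0 : m = 0
  · -- dimension one
    subst hm0
    refine ⟨fun i => e.constr K (fun _ => b i), fun i v => hconstr _ (fun _ => hbB i) v, ?_⟩
    intro g hg hη
    obtain ⟨w, hw⟩ := himg g hg 0
    have hw' : w = e.repr w 0 • e 0 := by
      conv_lhs => rw [← e.sum_repr w]
      simp
    have hc : e.repr w 0 ≠ 0 := by
      intro h
      rw [h, zero_smul] at hw'
      exact hinj g hg 0 (by rw [hw, hw']; rfl)
    refine finish hS hhm hAB hB0 hbase e hg hc (fun i => ?_) (fun j => ?_)
    · have h := hη i (e 0) w hw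
      rw [e.constr_basis] at h
      rw [h]
      conv_lhs => rw [hw']
      rw [map_smul, e.constr_basis]
    · obtain rfl : j = 0 := Fin.ext (by omega)
      rw [hw]
      conv_lhs => rw [hw']
      rfl
  by_cases hPa : finrank K P ≤ m + 1
  · -- `D`
    obtain ⟨D, hPD, hDB, hD⟩ := exists_between hPB hPa (by omega)
    let d : Basis (Fin (m + 1)) K D := finBasisOfFinrankEq K D hD
    obtain ⟨γ, hγ0, hγ⟩ := exists_gen (K := K)
    let θ : A ≃ₗ[K] D := e.equiv d (Equiv.refl _)
    have hθ : ∀ j, θ (e j) = d j := fun j => by simp [θ]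
    let η1 : A →ₗ[K] V := D.subtype ∘ₗ θ.toLinearMap
    have hη1 : ∀ j, η1 (e j) = (d j : V) := fun j => congrArg Subtype.val (hθ j)
    have hη1i : Function.Injective η1 := fun x y h => θ.injective (Subtype.ext h)
    let f2 : Fin (m + 1) → V := fun j => if j = 0 then γ • (d 0 : V) else 0
    let f3 : Fin (m + 1) → V := fun j => if h : j.val + 1 < m + 1 then (d ⟨j.val + 1, h⟩ : V) else 0
    refine ⟨![η1, e.constr K f2, e.constr K f3], ?_, ?_⟩
    · intro i v
      fin_cases i
      · exact hDB (θ v).2
      · refine hconstr f2 (fun j => ?_) v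
        simp only [f2]
        split_ifs
        · exact B.smul_mem _ (hDB (d 0).2)
        · exact B.zero_mem
      · refine hconstr f3 (fun j => ?_) v
        simp only [f3]
        split_ifs
        · exact hDB (d _).2
        · exact B.zero_mem
    · intro g hg hη
      obtain ⟨hadd, σ, hσ⟩ := hS hg
      have k1 : ∀ v w : A, g (v : V) = (w : V) → g (η1 v) = η1 w := hη 0
      have k2 : ∀ v w : A, g (v : V) = (w : V) → g (e.constr K f2 v) = e.constr K f2 w := hη 1
      have k3 : ∀ v w : A, g (v : V) = (w : V) → g (e.constr K f3 v) = e.constr K f3 w := hη 2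
      obtain ⟨w, hw⟩ := himg g hg 0
      have hw0 : w ≠ 0 := by
        intro h
        exact hinj g hg 0 (by rw [hw, h]; rfl)
      -- compare
      have e1 : σ γ • w = (e.repr w 0 * γ) • e 0 := by
        apply hη1i
        rw [map_smul, map_smul, ← k1 (e 0) w hw, hη1, ← hσ]
        have h := k2 (e 0) w hw
        rw [e.constr_basis, Basis.constr_apply_fintype] at h
        simp only [f2, if_pos rfl] at h
        rw [h, Finset.sum_eq_single 0]
        · rw [if_pos rfl, Basis.equivFun_apply, smul_smul]
        · intro j _ hj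
          rw [if_neg hj, smul_zero]
        · intro h; exact absurd (Finset.mem_univ _) h
      have hσγ : σ γ ≠ 0 := by
        rw [ne_eq, map_eq_zero_iff σ σ.injective]
        exact hγ0
      have hc : e.repr w 0 ≠ 0 := by
        intro h
        rw [h, zero_mul, zero_smul] at e1
        exact hw0 ((smul_eq_zero.1 e1).resolve_left hσγ)
      have e2 : σ γ = γ := by
        have h := congrArg (fun z => e.repr z 0) e1
        simp only [map_smul, Finsupp.smul_apply, smul_eq_mul, Basis.repr_self, Finsupp.single_eq_same, mul_one] at h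
        rw [mul_comm] at h
        exact mul_left_cancel₀ hc h
      have hσ1 := hγ σ e2
      have e3 : w = e.repr w 0 • e 0 := by
        rw [e2, mul_comm, mul_smul] at e1
        exact smul_right_injective A hγ0 e1
      set c := e.repr w 0 with hcdef
      have key : ∀ (j : ℕ) (hj : j < m + 1), g (e ⟨j, hj⟩ : V) = c • (e ⟨j, hj⟩ : V) := by
        intro j
        induction j with
        | zero =>
          intro hj
          change g (e 0 : V) = c • (e 0 : V)
          rw [hw]
          conv_lhs => rw [e3]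
          rfl
        | succ j ih =>
          intro hj
          have h1 := ih (by omega)
          obtain ⟨w', hw'⟩ := himg g hg ⟨j + 1, hj⟩
          have h2 := k3 (e ⟨j, by omega⟩) (c • e ⟨j, by omega⟩) h1
          rw [map_smul, e.constr_basis] at h2
          have h3 : f3 ⟨j, by omega⟩ = (d ⟨j + 1, hj⟩ : V) := by
            simp only [f3]
            rw [dif_pos hj]
          rw [h3, ← hη1, k1 _ w' hw', ← map_smul] at h2
          rw [hw', hη1i h2]
          rfl
      have keyd : ∀ j, g (d j : V) = c • (d j : V) := by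
        intro j
        have h1 := k1 (e j) (c • e j) (key j.val j.isLt)
        rw [map_smul, hη1] at h1
        exact h1
      refine finish hS hhm hAB hB0 hbase e hg hc (fun i => ?_) (fun j => key j.val j.isLt)
      have hbD : b i ∈ D := hPD (Submodule.subset_span ⟨i, rfl⟩)
      have e4 : b i = ∑ j, (d.repr ⟨b i, hbD⟩ j) • (d j : V) := by
        have := congrArg (fun z : D => (z : V)) (d.sum_repr ⟨b i, hbD⟩)
        simp only [Submodule.coe_sum, Submodule.coe_smul] at this
        exact this.symm
      rw [e4, semi_sum (hS hg), Finset.smul_sum]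
      refine Finset.sum_congr rfl fun j _ => ?_
      rw [hσ, hσ1, keyd, smul_comm]
  · -- dimension two, independent base
    obtain rfl : m = 1 := by omega
    have hP : finrank K P = 3 := by omega
    have hli : LinearIndependent K b := by
      rw [linearIndependent_iff_card_eq_finrank_span]
      change Fintype.card (Fin 3) = finrank K P
      rw [hP]
      rfl
    refine ⟨![e.constr K ![b 0, b 1], e.constr K ![b 1, b 2], 0], ?_, ?_⟩
    · intro i v
      fin_cases i
      · exact hconstr _ (fun j => by fin_cases j <;> exact hbB _) v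
      · exact hconstr _ (fun j => by fin_cases j <;> exact hbB _) v
      · exact B.zero_mem
    · intro g hg hη
      have k1 : ∀ v w : A, g (v : V) = (w : V) → g (e.constr K ![b 0, b 1] v) = e.constr K ![b 0, b 1] w := hη 0
      have k2 : ∀ v w : A, g (v : V) = (w : V) → g (e.constr K ![b 1, b 2] v) = e.constr K ![b 1, b 2] w := hη 1
      obtain ⟨w0, hw0⟩ := himg g hg 0
      obtain ⟨w1, hw1⟩ := himg g hg 1
      have e0 : w0 = e.repr w0 0 • e 0 + e.repr w0 1 • e 1 := by
        have h := e.sum_repr w0
        rw [Fin.sum_univ_two] at h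
        exact h.symm
      have e1 : w1 = e.repr w1 0 • e 0 + e.repr w1 1 • e 1 := by
        have h := e.sum_repr w1
        rw [Fin.sum_univ_two] at h
        exact h.symm
      have a1 : g (b 0) = e.repr w0 0 • b 0 + e.repr w0 1 • b 1 := by
        have h := k1 (e 0) w0 hw0
        rw [e.constr_basis, Basis.constr_apply_fintype, Fin.sum_univ_two] at h
        exact h
      have a2 : g (b 1) = e.repr w1 0 • b 0 + e.repr w1 1 • b 1 := by
        have h := k1 (e 1) w1 hw1
        rw [e.constr_basis, Basis.constr_apply_fintype, Fin.sum_univ_two] at h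
        exact h
      have a3 : g (b 1) = e.repr w0 0 • b 1 + e.repr w0 1 • b 2 := by
        have h := k2 (e 0) w0 hw0
        rw [e.constr_basis, Basis.constr_apply_fintype, Fin.sum_univ_two] at h
        exact h
      have a4 : g (b 2) = e.repr w1 0 • b 1 + e.repr w1 1 • b 2 := by
        have h := k2 (e 1) w1 hw1
        rw [e.constr_basis, Basis.constr_apply_fintype, Fin.sum_univ_two] at h
        exact h
      have h5 : (∑ i, (![e.repr w1 0, e.repr w1 1 - e.repr w0 0, - e.repr w0 1] i) • b i) = 0 := by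
        rw [Fin.sum_univ_three]
        have h := a2.symm.trans a3
        simp only [Matrix.cons_val_zero, Matrix.cons_val_one, Matrix.cons_val_two, Matrix.head_cons, Matrix.tail_cons, Matrix.cons_val]
        rw [sub_smul, neg_smul]
        rw [← sub_eq_zero] at h
        rw [← h]
        abel
      have h6 := Fintype.linearIndependent_iff.1 hli _ h5
      have c0 : e.repr w1 0 = 0 := h6 0
      have c1 : e.repr w1 1 - e.repr w0 0 = 0 := h6 1
      have c2 : - e.repr w0 1 = 0 := h6 2
      rw [neg_eq_zero] at c2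
      rw [sub_eq_zero] at c1
      rw [c2, zero_smul, add_zero] at e0 a1
      rw [c0, zero_smul, zero_add, c1] at e1 a2 a4
      have hc : e.repr w0 0 ≠ 0 := by
        intro h
        rw [h, zero_smul] at e0
        exact hinj g hg 0 (by rw [hw0, e0]; rfl)
      refine finish hS hhm hAB hB0 hbase e hg hc (fun i => ?_) (fun j => ?_)
      · fin_cases i
        · exact a1
        · exact a2
        · exact a4
      · fin_cases j
        · change g (e 0 : V) = _
          rw [hw0]
          conv_lhs => rw [e0]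
          rfl
        · change g (e 1 : V) = _
          rw [hw1]
          conv_lhs => rw [e1]
          rfl

end

end Cfsg.Agent.H10.FC
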