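import Cfsg.Agent.H10.FC.Main
import Cfsg.Agent.H55.FC.T3
import Cfsg.Agent.H277.FC.SN
import Cfsg.Agent.H200.FC.Bridge

/-!
# S5764, COR-G4, hypothesis-free version (helper10)
-/

set_option autoImplicit false

namespace Cfsg.Agent.H10.FC

open Cfsg.Agent.H198.FC

universe u v

/-- the form asked for by helper923 -/
theorem stmtG4 {K : Type u} [Field K] [Finite K] {V : Type v} [AddCommGroup V] [Module K V] [Module.Finite K V]
    (S : Subgroup (Equiv.Perm (R K V))) (hS : S ≤ RA K V) (h3 : 3 ≤ Module.finrank K V) (hsol : Group.IsSolvable S)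
    (hred : ∃ W : Submodule K V, W ≠ ⊥ ∧ W ≠ ⊤ ∧ ∀ f ∈ S, f ∈ RP K V → Stb f W)
    (hcr : ∀ W : Submodule K V, (∀ f ∈ S, f ∈ RP K V → Stb f W) →
      ∃ W' : Submodule K V, (∀ f ∈ S, f ∈ RP K V → Stb f W') ∧ W ⊓ W' = ⊥ ∧ W ⊔ W' = ⊤) : Five S :=
  corG4 (fun _ _ _ _ _ _ _ S hS h3 hsol ⟨x, hx, hf⟩ =>
      H55.FC.five_of_three h3 S hS hsol x hx (fun f hfS hfx => hf f hfS.1 hfS.2 hfx))
    H277.FC.stmtSN (H200.FC.stmtBridge_of H277.FC.stmtSN) K V S hS h3 hsol hred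
    (fun W hW => by
      obtain ⟨W', h1, h2, h3⟩ := hcr W hW
      exact ⟨W', h1, IsCompl.of_eq h2 h3⟩)

end Cfsg.Agent.H10.FC
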