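import Cfsg.Agent.H10.FC.Core
import Cfsg.Agent.H466.FC.S00

/-!
# S5764, COR-G4 (helper10)

`corG4` : `S ≤ RA`, solvable, `dim V ≥ 3`, `S ∩ RP` reducible and completely reducible: `Five S` (given L-T3, L-SN, L-BR).
-/

set_option autoImplicit false

namespace Cfsg.Agent.H10.FC

open Cfsg.Agent.H198.FC Module

universe u v

/-- L-T3 -/
def StT3 : Prop :=
  ∀ (K : Type u) [Field K] [Finite K] (V : Type v) [AddCommGroup V] [Module K V] [Module.Finite K V]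
    (S : Subgroup (Equiv.Perm (R K V))), S ≤ RA K V → 3 ≤ finrank K V → Group.IsSolvable S →
    (∃ x : Fin 3 → (R K V)ˣ, (∀ i, LinearMap.det ((x i : (R K V)ˣ) : R K V) = 1) ∧
      ∀ f ∈ S, f ∈ RP K V → (∀ i, cj K V (x i) * f * (cj K V (x i))⁻¹ ∈ S) → f = 1) → Five S

section

variable {K : Type u} [Field K] {V : Type v} [AddCommGroup V] [Module K V]

/-- a unit of `R` as a permutation of `V` -/
def up (x : (R K V)ˣ) : Equiv.Perm V where
  toFun v := (x : R K V) v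
  invFun v := ((x⁻¹ : (R K V)ˣ) : R K V) v
  left_inv v := by
    change (((x⁻¹ : (R K V)ˣ) : R K V) * (x : R K V)) v = v
    rw [Units.inv_mul]
    rfl
  right_inv v := by
    change ((x : R K V) * ((x⁻¹ : (R K V)ˣ) : R K V)) v = v
    rw [Units.mul_inv]
    rfl

theorem up_apply (x : (R K V)ˣ) (v : V) : up x v = (x : R K V) v := rfl

theorem up_symm_apply (x : (R K V)ˣ) (v : V) : (up x).symm v = ((x⁻¹ : (R K V)ˣ) : R K V) v := rfl

theorem up_mem (x : (R K V)ˣ) : up x ∈ Semi K V := by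
  refine ⟨fun v w => ?_, RingEquiv.refl K, fun a v => ?_⟩
  · rw [up_apply, map_add]; rfl
  · rw [up_apply, map_smul]; rfl

theorem up_mul_inv_conj {f : Equiv.Perm (R K V)} {g : Equiv.Perm V} (h : ∀ (X : R K V) (v : V), f X (g v) = g (X v))
    (x : (R K V)ˣ) (X : R K V) (v : V) :
    (cj K V x * f * (cj K V x)⁻¹) X ((up x * g * (up x)⁻¹) v) = (up x * g * (up x)⁻¹) (X v) := by
  have e1 : (cj K V x)⁻¹ X = (x⁻¹ : (R K V)ˣ) * X * x := by
    rw [← map_inv, cj_apply, inv_inv]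
  have e2 : (cj K V x * f * (cj K V x)⁻¹) X = (x : R K V) * f (((x⁻¹ : (R K V)ˣ) : R K V) * X * x) * ((x⁻¹ : (R K V)ˣ) : R K V) := by
    change cj K V x (f ((cj K V x)⁻¹ X)) = _
    rw [e1, cj_apply]
  have e3 : ∀ w, (up x * g * (up x)⁻¹) w = (x : R K V) (g (((x⁻¹ : (R K V)ˣ) : R K V) w)) := fun w => rfl
  rw [e2, e3, e3]
  change (x : R K V) (f (((x⁻¹ : (R K V)ˣ) : R K V) * X * x) ((((x⁻¹ : (R K V)ˣ) : R K V) * (x : R K V)) _)) = _
  rw [Units.inv_mul]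
  change (x : R K V) (f (((x⁻¹ : (R K V)ˣ) : R K V) * X * x) (g _)) = _
  rw [h]
  change (x : R K V) (g (((x⁻¹ : (R K V)ˣ) : R K V) (X (((x : R K V) * ((x⁻¹ : (R K V)ˣ) : R K V)) v)))) = _
  rw [Units.mul_inv]
  rfl

/-- three conjugates kill a completely reducible, reducible group -/
theorem three_semi [Finite K] [Module.Finite K V] (hn : 1 ≤ finrank K V) {S : Subgroup (Equiv.Perm V)} (hS : S ≤ Semi K V)
    (hhm : ∀ a, hm K V a ∈ S) (hsol : Group.IsSolvable S) {A B : Submodule K V} (hAB : IsCompl A B)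
    (hA : ∀ g ∈ S, ∀ v ∈ A, g v ∈ A) (hB : ∀ g ∈ S, ∀ v ∈ B, g v ∈ B) (hA0 : A ≠ ⊥)
    (hab : finrank K A ≤ finrank K B)
    (hcr : ∀ U : Submodule K V, U ≤ B → (∀ g ∈ S, ∀ v ∈ U, g v ∈ U) →
      ∃ W : Submodule K V, W ≤ B ∧ (∀ g ∈ S, ∀ v ∈ W, g v ∈ W) ∧ U ⊓ W = ⊥ ∧ U ⊔ W = B) :
    ∃ x : Fin 3 → (R K V)ˣ, (∀ i, LinearMap.det ((x i : (R K V)ˣ) : R K V) = 1) ∧
      ∀ g ∈ S, (∀ i, up (x i) * g * (up (x i))⁻¹ ∈ S) → ∃ a : Kˣ, g = hm K V a := by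
  obtain ⟨η, hηB, hη⟩ := exists_eta hS hhm hsol hAB hA hB hA0 hab hcr
  obtain ⟨p, hp⟩ := CharP.exists K
  have hpp : Fact p.Prime := ⟨CharP.char_is_prime K p⟩
  have hnt : Nontrivial V := Module.finrank_pos_iff.1 (by omega : 0 < finrank K V)
  let N : Fin 3 → R K V := fun i => η i ∘ₗ A.projectionOnto B hAB
  have hNA : ∀ i (v : A), N i (v : V) = η i v := by
    intro i v
    change η i (A.projectionOnto B hAB (v : V)) = _
    rw [Submodule.projectionOnto_apply_left]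
  have hNB : ∀ i, ∀ v ∈ B, N i v = 0 := by
    intro i v hv
    change η i (A.projectionOnto B hAB v) = 0
    rw [Submodule.projectionOnto_apply_of_mem_right hAB hv, map_zero]
  have hNN : ∀ i, N i * N i = 0 := by
    intro i
    ext v
    exact hNB i _ (hηB i _)
  have hx : ∀ i, ∃ x : (R K V)ˣ, (x : R K V) = 1 + N i ∧ LinearMap.det (x : R K V) = 1 := by
    intro i
    obtain ⟨x, h1, h2, -⟩ := H466.FC.exists_uni (K := K) (V := V) (p := p) (N := N i) ⟨2, by rw [pow_two]; exact hNN i⟩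
    exact ⟨x, h1, h2⟩
  choose x hx1 hx2 using hx
  have hxi : ∀ i, ((x i)⁻¹ : (R K V)ˣ) = ((1 : R K V) - N i) := by
    intro i
    have h1 : (x i : R K V) * (1 - N i) = 1 := by
      rw [hx1, mul_sub, mul_one, add_mul, one_mul, hNN, add_zero]
      abel
    exact Units.inv_eq_of_mul_eq_one_right h1
  refine ⟨x, hx2, ?_⟩
  intro g hg hgx
  refine hη g hg ?_
  intro i v w hvw
  have h1 := hA _ (hgx i) v v.2
  have h2 : (up (x i) * g * (up (x i))⁻¹) (v : V) = (w : V) + (η i w - g (η i v)) := by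
    change (x i : R K V) (g ((((x i)⁻¹ : (R K V)ˣ) : R K V) (v : V))) = _
    rw [hxi, hx1]
    change g ((v : V) - N i v) + N i (g ((v : V) - N i v)) = _
    rw [hNA, semi_sub (hS hg), hvw, map_sub, hNA, hNB i _ (hB g hg _ (hηB i v))]
    abel
  rw [h2] at h1
  have h3 : η i w - g (η i v) ∈ A := by
    have := A.sub_mem h1 w.2
    rwa [add_sub_cancel_left] at this
  have h4 : η i w - g (η i v) ∈ B := B.sub_mem (hηB i w) (hB g hg _ (hηB i v))
  have h5 : η i w - g (η i v) ∈ A ⊓ B := ⟨h3, h4⟩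
  rw [hAB.inf_eq_bot] at h5
  have h6 : η i w - g (η i v) = 0 := h5
  exact (sub_eq_zero.1 h6).symm

end

/-- **COR-G4** -/
theorem corG4 (hT3 : StT3.{u, v}) (hSN : StmtSN.{u, v}) (hBr : StmtBridge.{u, v})
    (K : Type u) [Field K] [Finite K] (V : Type v) [AddCommGroup V] [Module K V] [Module.Finite K V]
    (S : Subgroup (Equiv.Perm (R K V))) (hS : S ≤ RA K V) (hn : 3 ≤ finrank K V) (hsol : Group.IsSolvable S)
    (hred : ∃ W : Submodule K V, W ≠ ⊥ ∧ W ≠ ⊤ ∧ ∀ f ∈ S, f ∈ RP K V → Stb f W)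
    (hcr : ∀ W : Submodule K V, (∀ f ∈ S, f ∈ RP K V → Stb f W) →
      ∃ W' : Submodule K V, (∀ f ∈ S, f ∈ RP K V → Stb f W') ∧ IsCompl W W') : Five S := by
  have hsol0 : Group.IsSolvable (S ⊓ RP K V : Subgroup (Equiv.Perm (R K V))) :=
    Group.isSolvable_of_isSolvable_injective (f := Subgroup.inclusion (inf_le_left : S ⊓ RP K V ≤ S))
      (Subgroup.inclusion_injective _)
  obtain ⟨S', hS', hhm, hsol', hiff, hinv, -⟩ := hBr K V (by omega) (S ⊓ RP K V) inf_le_right hsol0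
  have hst : ∀ W : Submodule K V, (∀ f ∈ S, f ∈ RP K V → Stb f W) → ∀ g ∈ S', ∀ w ∈ W, g w ∈ W :=
    fun W hW => hinv W (fun f hf => hW f hf.1 hf.2)
  have hst' : ∀ W : Submodule K V, (∀ g ∈ S', ∀ w ∈ W, g w ∈ W) → ∀ f ∈ S, f ∈ RP K V → Stb f W := by
    intro W hW f hf hfP X hX v
    obtain ⟨g, hg, hfg⟩ := hSN K V (by omega) f hfP
    have hg' : g ∈ S' := (hiff g hg).2 ⟨f, ⟨hf, hfP⟩, hfg⟩
    have h := hfg X (g.symm v)
    rw [Equiv.apply_symm_apply] at h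
    rw [h]
    exact hW g hg' _ (hX _)
  have hcr' : ∀ B U : Submodule K V, (∀ g ∈ S', ∀ w ∈ B, g w ∈ B) → U ≤ B → (∀ g ∈ S', ∀ v ∈ U, g v ∈ U) →
      ∃ W : Submodule K V, W ≤ B ∧ (∀ g ∈ S', ∀ v ∈ W, g v ∈ W) ∧ U ⊓ W = ⊥ ∧ U ⊔ W = B := by
    intro B U hB hUB hU
    obtain ⟨U', hU', hUU⟩ := hcr U (hst' U hU)
    refine ⟨U' ⊓ B, inf_le_right, fun g hg v hv => ⟨hst U' hU' g hg v hv.1, hB g hg v hv.2⟩, ?_, ?_⟩
    · rw [← inf_assoc, hUU.inf_eq_bot, bot_inf_eq]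
    · rw [← sup_inf_assoc_of_le U' hUB, hUU.sup_eq_top, top_inf_eq]
  -- the decomposition
  obtain ⟨A, B, hAB, hA, hB, hA0, hab⟩ : ∃ A B : Submodule K V, IsCompl A B ∧ (∀ g ∈ S', ∀ w ∈ A, g w ∈ A) ∧
      (∀ g ∈ S', ∀ w ∈ B, g w ∈ B) ∧ A ≠ ⊥ ∧ finrank K A ≤ finrank K B := by
    obtain ⟨W, hW0, hW1, hW⟩ := hred
    obtain ⟨W', hW', hWW⟩ := hcr W hW
    have hW0' : W' ≠ ⊥ := by
      intro h
      apply hW1
      have := hWW.sup_eq_top
      rwa [h, sup_bot_eq] at this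
    rcases le_total (finrank K W) (finrank K W') with h | h
    · exact ⟨W, W', hWW, hst W hW, hst W' hW', hW0, h⟩
    · exact ⟨W', W, hWW.symm, hst W' hW', hst W hW, hW0', h⟩
  obtain ⟨x, hx1, hx2⟩ := three_semi (by omega) hS' hhm hsol' hAB hA hB hA0 hab (fun U hU hU' => hcr' B U hB hU hU')
  refine hT3 K V S hS hn hsol ⟨x, hx1, ?_⟩
  intro f hf hfP hfx
  obtain ⟨g, hg, hfg⟩ := hSN K V (by omega) f hfP
  have hg' : g ∈ S' := (hiff g hg).2 ⟨f, ⟨hf, hfP⟩, hfg⟩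
  obtain ⟨a, ha⟩ := hx2 g hg' (fun i => by
    refine (hiff _ ?_).2 ⟨cj K V (x i) * f * (cj K V (x i))⁻¹, ⟨hfx i, ?_⟩, up_mul_inv_conj hfg (x i)⟩
    · exact (Semi K V).mul_mem ((Semi K V).mul_mem (up_mem _) hg) ((Semi K V).inv_mem (up_mem _))
    · exact (RP K V).mul_mem ((RP K V).mul_mem (cj_mem_RP _) hfP) ((RP K V).inv_mem (cj_mem_RP _)))
  subst ha
  apply Equiv.ext
  intro X
  apply LinearMap.ext
  intro v
  have h := hfg X v
  rw [hm_apply, hm_apply, map_smul] at h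
  have h2 := congrArg (fun z => ((a⁻¹ : Kˣ) : K) • z) h
  simp only [smul_smul, Units.inv_mul, one_smul] at h2
  exact h2

end Cfsg.Agent.H10.FC
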