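import Mathlib
import Cfsg.Agent.H198.FC.Defs
import Cfsg.Agent.H578.Base3

/-!
# S5764, COR-G4: completely reducible, reducible semilinear groups (helper10)

`S` solvable, semilinear, containing the homotheties, preserving `V = A ⊕ B`, completely reducible on `B`, `dim A ≤ dim B`,
`dim V ≥ 3`: three graphs of maps `η_i : A → B` leave only the homotheties.
-/

set_option autoImplicit false

namespace Cfsg.Agent.H10.FC

open Cfsg.Agent.H198.FC Module

universe u v

section

variable {K : Type u} [Field K] {V : Type v} [AddCommGroup V] [Module K V]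

theorem semi_zero {g : Equiv.Perm V} (hg : g ∈ Semi K V) : g 0 = 0 := by
  have h := hg.1 0 0
  rw [add_zero] at h
  exact left_eq_add.1 h

theorem semi_sum {g : Equiv.Perm V} (hg : g ∈ Semi K V) {ι : Type*} (s : Finset ι) (f : ι → V) :
    g (∑ i ∈ s, f i) = ∑ i ∈ s, g (f i) := by
  classical
  induction s using Finset.induction_on with
  | empty => simp [semi_zero hg]
  | insert i s hi ih => rw [Finset.sum_insert hi, Finset.sum_insert hi, hg.1, ih]

theorem semi_neg {g : Equiv.Perm V} (hg : g ∈ Semi K V) (v : V) : g (-v) = - g v := by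
  have h := hg.1 v (-v)
  rw [add_neg_cancel, semi_zero hg] at h
  exact (neg_eq_of_add_eq_zero_right h.symm).symm

theorem semi_sub {g : Equiv.Perm V} (hg : g ∈ Semi K V) (v w : V) : g (v - w) = g v - g w := by
  rw [sub_eq_add_neg, hg.1, semi_neg hg, sub_eq_add_neg]

/-- restriction of a group of additive bijections to an invariant subspace -/
def resB (S : Subgroup (Equiv.Perm V)) (hS : S ≤ Semi K V) (B : Submodule K V) (hB : ∀ g ∈ S, ∀ v ∈ B, g v ∈ B) :
    S →* H578.AU B :=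
  MonoidHom.toHomUnits
    { toFun := fun g =>
        { toFun := fun v => ⟨(g : Equiv.Perm V) v, hB g g.2 v v.2⟩
          map_zero' := Subtype.ext (semi_zero (hS g.2))
          map_add' := fun v w => Subtype.ext ((hS g.2).1 v w) }
      map_one' := by
        apply AddMonoidHom.ext
        intro x
        rfl
      map_mul' := fun a b => by
        apply AddMonoidHom.ext
        intro x
        rfl }

theorem resB_apply {S : Subgroup (Equiv.Perm V)} (hS : S ≤ Semi K V) {B : Submodule K V} (hB : ∀ g ∈ S, ∀ v ∈ B, g v ∈ B)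
    (g : S) (v : B) : (((resB S hS B hB g).1 v : B) : V) = (g : Equiv.Perm V) v := rfl

theorem base_on [Finite K] [Module.Finite K V] {S : Subgroup (Equiv.Perm V)} (hS : S ≤ Semi K V)
    (hhm : ∀ a, hm K V a ∈ S) (hsol : Group.IsSolvable S) (B : Submodule K V) (hB : ∀ g ∈ S, ∀ v ∈ B, g v ∈ B)
    (hcr : ∀ U : Submodule K V, U ≤ B → (∀ g ∈ S, ∀ v ∈ U, g v ∈ U) →
      ∃ W : Submodule K V, W ≤ B ∧ (∀ g ∈ S, ∀ v ∈ W, g v ∈ W) ∧ U ⊓ W = ⊥ ∧ U ⊔ W = B) :
    ∃ b : Fin 3 → V, (∀ i, b i ∈ B) ∧ ∀ g ∈ S, (∀ i, g (b i) = b i) → ∀ v ∈ B, g v = v := by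
  have : Finite V := Module.finite_of_finite K
  obtain ⟨v, hv⟩ := H578.cr_base (Fin 3) (A := S) (fun W _ _ _ φ hirr =>
    H578.irr3 φ.range (Group.isSolvable_of_surjective (f := φ.rangeRestrict)
      φ.rangeRestrict_surjective) hirr) _ B (resB S hS B hB) rfl (by
    intro U hU
    have hU' : ∀ g ∈ S, ∀ v : B, v ∈ U → ∀ h : g (v : V) ∈ B, (⟨g v, h⟩ : B) ∈ U := by
      intro g hg v hvU h
      exact hU ⟨g, hg⟩ v hvU
    -- the submodule
    let U0 : Submodule K B :=
      { carrier := U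
        add_mem' := fun h1 h2 => U.add_mem h1 h2
        zero_mem' := U.zero_mem
        smul_mem' := by
          intro c x hx
          by_cases hc : c = 0
          · rw [hc, zero_smul]; exact U.zero_mem
          · exact hU' (hm K V (Units.mk0 c hc)) (hhm _) x hx (B.smul_mem c x.2) }
    obtain ⟨W, hWB, hW, h1, h2⟩ := hcr (U0.map B.subtype) (Submodule.map_subtype_le B U0) (by
      rintro g hg _ ⟨v, hv, rfl⟩
      exact ⟨⟨g v, hB g hg v v.2⟩, hU' g hg v hv _, rfl⟩)
    refine ⟨(W.comap B.subtype).toAddSubgroup, ?_, ?_, ?_⟩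
    · intro g w hw
      exact hW g g.2 w hw
    · rw [eq_bot_iff]
      rintro x ⟨hx1, hx2⟩
      have h3 : (x : V) ∈ U0.map B.subtype ⊓ W := ⟨⟨x, hx1, rfl⟩, hx2⟩
      rw [h1] at h3
      exact Subtype.ext h3
    · rw [eq_top_iff]
      intro x _
      have h3 : (x : V) ∈ U0.map B.subtype ⊔ W := by rw [h2]; exact x.2
      obtain ⟨_, ⟨y, hy, rfl⟩, z, hz, hyz⟩ := Submodule.mem_sup.1 h3
      refine AddSubgroup.mem_sup.2 ⟨y, hy, ⟨z, hWB hz⟩, hz, Subtype.ext hyz⟩)
  refine ⟨fun i => v i, fun i => (v i).2, ?_⟩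
  intro g hg hfix w hwB
  have h2 := hv ⟨g, hg⟩ (fun i => Subtype.ext (hfix i))
  rw [← resB_apply hS hB ⟨g, hg⟩ ⟨w, hwB⟩, h2]
  rfl

/-- intermediate subspaces -/
theorem exists_between [Module.Finite K V] {P B : Submodule K V} (hPB : P ≤ B) {a : ℕ} (h1 : finrank K P ≤ a)
    (h2 : a ≤ finrank K B) : ∃ D : Submodule K V, P ≤ D ∧ D ≤ B ∧ finrank K D = a := by
  obtain ⟨k, rfl⟩ := Nat.exists_eq_add_of_le h1
  clear h1
  induction k with
  | zero => exact ⟨P, le_rfl, hPB, rfl⟩
  | succ k ih =>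
    obtain ⟨D, hPD, hDB, hD⟩ := ih (by omega)
    have hne : ¬ B ≤ D := by
      intro h
      have := Submodule.finrank_mono h
      omega
    obtain ⟨v, hvB, hvD⟩ := SetLike.not_le_iff_exists.1 hne
    refine ⟨D ⊔ Submodule.span K {v}, hPD.trans le_sup_left, sup_le hDB ?_, ?_⟩
    · rw [Submodule.span_le, Set.singleton_subset_iff]
      exact hvB
    · rw [Submodule.finrank_sup_span_singleton hvD, hD]
      ring

/-- a field element moved by every non-trivial automorphism -/
theorem exists_gen [Finite K] : ∃ γ : K, γ ≠ 0 ∧ ∀ σ : K ≃+* K, σ γ = γ → ∀ c, σ c = c := by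
  obtain ⟨γ, hγ⟩ := IsCyclic.exists_generator (α := Kˣ)
  refine ⟨γ, γ.ne_zero, fun σ h c => ?_⟩
  by_cases hc : c = 0
  · rw [hc, map_zero]
  · obtain ⟨k, hk⟩ := Subgroup.mem_zpowers_iff.1 (hγ (Units.mk0 c hc))
    have h1 : c = ((γ ^ k : Kˣ) : K) := by rw [hk]; rfl
    rw [h1, Units.val_zpow_eq_zpow_val, map_zpow₀, h]

end

end Cfsg.Agent.H10.FC
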